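-- Copied verbatim (namespace changed) from helper15's Groth/Agent/H15/DepthLoc.lean so that H14 does not depend on later edits there.
import Groth.Agent.H14.D15.DepthFlat
import Mathlib.RingTheory.Ideal.AssociatedPrime.Localization
import Mathlib.RingTheory.Ideal.AssociatedPrime.Finiteness
import Mathlib.Algebra.Module.LocalizedModule.AtPrime

set_option autoImplicit false
universe u v

open RingTheory.Sequence TensorProduct IsLocalRing

namespace Groth.Agent.H14.D15

variable {A : Type u} [CommRing A] [IsNoetherianRing A]

/-- At an associated prime, the localized module has depth zero. -/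
theorem depth_localization_eq_zero_of_mem_associatedPrimes (M : Type v) [AddCommGroup M] [Module A M]
    [Module.Finite A M] (p : Ideal A) [p.IsPrime] (hp : p ∈ associatedPrimes A M) :
    LocCoh.depth (Localization.AtPrime p) (LocalizedModule p.primeCompl M) ≤ 0 := by
  have hass := Module.associatedPrimes.mem_associatedPrimes_atPrime_of_mem_associatedPrimes hp
  have h2 := isAssociatedPrime_iff.mp (AssociatedPrimes.mem_iff.mp hass)
  obtain ⟨x, hx⟩ := h2.2
  have hkill : ∀ y ∈ maximalIdeal (Localization.AtPrime p), y • x = 0 := by
    intro y hy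
    rw [hx] at hy
    simpa [Submodule.mem_colon_singleton] using hy
  have hx0 : x ≠ 0 := by
    rintro rfl
    have : (1 : Localization.AtPrime p) ∈ maximalIdeal (Localization.AtPrime p) := by
      rw [hx]
      simp [Submodule.mem_colon_singleton]
    exact (Ideal.ne_top_iff_one _).mp (maximalIdeal.isMaximal _).ne_top this
  have : Nontrivial (LocalizedModule p.primeCompl M) := ⟨⟨x, 0, hx0⟩⟩
  have hne : maximalIdeal (Localization.AtPrime p) •
      (⊤ : Submodule (Localization.AtPrime p) (LocalizedModule p.primeCompl M)) ≠ ⊤ :=
    (Submodule.top_ne_ideal_smul_of_le_jacobson_annihilator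
      (IsLocalRing.maximalIdeal_le_jacobson _)).symm
  unfold LocCoh.depth
  apply idealDepth_le_of_forall _ _ hne
  intro rs hrs hmem
  match rs, hrs, hmem with
  | [], _, _ => simp
  | y :: rs', hrs, hmem =>
    exfalso
    have hy : IsSMulRegular (LocalizedModule p.primeCompl M) y :=
      ((isWeaklyRegular_cons_iff _ _ _).mp hrs).1
    apply hx0
    apply hy
    simp only [smul_zero]
    exact hkill y (hmem y List.mem_cons_self)

/-- If all localizations at primes containing `I` have positive depth, `I` contains a regular element. -/
theorem exists_isSMulRegular_of_depth_pos (M : Type v) [AddCommGroup M] [Module A M]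
    [Module.Finite A M] (I : Ideal A)
    (h : ∀ (p : Ideal A) [p.IsPrime], I ≤ p →
      (1 : ℕ∞) ≤ LocCoh.depth (Localization.AtPrime p) (LocalizedModule p.primeCompl M)) :
    ∃ x ∈ I, IsSMulRegular M x := by
  by_contra hcon
  push Not at hcon
  rcases subsingleton_or_nontrivial M with hM | hM
  · exact hcon 0 I.zero_mem (IsSMulRegular.zero)
  have hexist : ∃ p ∈ associatedPrimes A M, I ≤ p := by
    rcases associatedPrimes.nonempty A M with ⟨Ia, hIa⟩
    apply (Ideal.subset_union_prime_finite (associatedPrimes.finite A M) Ia Ia _).mp
    · rw [biUnion_associatedPrimes_eq_compl_regular A M]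
      exact fun r hr ↦ hcon r hr
    · exact fun I hin _ _ ↦ IsAssociatedPrime.isPrime hin
  obtain ⟨p, hpass, hIp⟩ := hexist
  have := IsAssociatedPrime.isPrime hpass
  have h1 := h p hIp
  have h0 := depth_localization_eq_zero_of_mem_associatedPrimes M p hpass
  have := h1.trans h0
  simp at this


/-- Depth of the localization drops by at most one modulo a regular element of the prime. -/
theorem le_depth_localization_quotSMulTop (M : Type v) [AddCommGroup M] [Module A M]
    [Module.Finite A M] (p : Ideal A) [p.IsPrime] (x : A) (hxp : x ∈ p) (hx : IsSMulRegular M x)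
    (r : ℕ)
    (h : ((r + 1 : ℕ) : ℕ∞) ≤
      LocCoh.depth (Localization.AtPrime p) (LocalizedModule p.primeCompl M)) :
    (r : ℕ∞) ≤
      LocCoh.depth (Localization.AtPrime p) (LocalizedModule p.primeCompl (QuotSMulTop x M)) := by
  have hf : IsBaseChange (Localization.AtPrime p) (LocalizedModule.mkLinearMap p.primeCompl M) :=
    IsLocalizedModule.isBaseChange p.primeCompl (Localization.AtPrime p) _
  have hf' : IsBaseChange (Localization.AtPrime p)
      (LocalizedModule.mkLinearMap p.primeCompl (QuotSMulTop x M)) :=
    IsLocalizedModule.isBaseChange p.primeCompl (Localization.AtPrime p) _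
  have : Module.Flat A (Localization.AtPrime p) := IsLocalization.flat _ p.primeCompl
  let e : QuotSMulTop (algebraMap A (Localization.AtPrime p) x) (LocalizedModule p.primeCompl M)
      ≃ₗ[Localization.AtPrime p] LocalizedModule p.primeCompl (QuotSMulTop x M) :=
    ((QuotSMulTop.algebraMapTensorEquivTensorQuotSMulTop x M (Localization.AtPrime p)).symm ≪≫ₗ
      QuotSMulTop.congr (algebraMap A (Localization.AtPrime p) x) hf.equiv).symm ≪≫ₗ hf'.equiv
  unfold LocCoh.depth at h ⊢
  rw [← idealDepth_congr e]
  have hmem : algebraMap A (Localization.AtPrime p) x ∈ maximalIdeal (Localization.AtPrime p) :=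
    (IsLocalization.AtPrime.to_map_mem_maximal_iff (Localization.AtPrime p) p x).mpr hxp
  have : Small.{max u v} (Localization.AtPrime p) := small_max.{v, u} _
  exact le_idealDepth_quotSMulTop (maximalIdeal (Localization.AtPrime p))
    (LocalizedModule p.primeCompl M) (algebraMap A (Localization.AtPrime p) x) hmem
    (hx.of_flat_of_isBaseChange hf) r h

end Groth.Agent.H14.D15
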